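import Groth.Agent.Sga7.H729.Core
import Groth.Agent.TateLoc.K809.AffNhd
import Groth.Agent.Desc.AmpleDesc
import Groth.Agent.Models2.AmplePull
import Groth.Agent.Hensel.Lazard
import Groth.Agent.S0537

/-!
# The neutral component of a smooth model of unipotent rank zero

Over an arbitrary discrete valuation ring, the identity component of a smooth commutative model of an abelian variety
whose geometric fibres have unipotent rank zero: it has the same properties, irreducible geometric fibres, and finite
subsets of its fibres lie in affine opens.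
-/

set_option autoImplicit false
universe u

open CategoryTheory MonoidalCategory CartesianMonoidalCategory MonObj GrpObj AlgebraicGeometry Limits TopologicalSpace
open Groth.Agent Groth.Agent.Sga7.H620.Growth Groth.Agent.Sga7.H620.Neutral
  Groth.Agent.Sga3.H778.NeutralOpen Groth.Agent.Localalg.GrpSchPts Groth.Agent.Sga7.H737.FlatMonoBC

namespace K469.Neut

/-- Unipotent rank zero passes to open subgroup schemes. -/
theorem fibreUnipotentRankZero {S : Scheme.{u}} {G N : Over S} [GrpObj G] [GrpObj N]
    (v : G ⟶ N) [IsMonHom v] [IsOpenImmersion v.left] (s : S)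
    (h : SGA7.FibreUnipotentRankZero s N) : SGA7.FibreUnipotentRankZero s G := by
  intro j hj1 hj2
  let w : Red.geomFibre s G ⟶ Red.geomFibre s N := (Over.pullback (Red.geomPt s)).map v
  have hw : IsMonHom w := inferInstanceAs (IsMonHom ((Over.pullback (Red.geomPt s)).map v))
  have hw2 : IsOpenImmersion w.left :=
    MorphismProperty.of_isPullback (isPullback_map (Red.geomPt s) v).flip inferInstance
  have hO : IsOpen (Set.range w.left) := w.left.isOpenEmbedding.isOpen_range
  have hC : IsClosed (Set.range w.left) := (isSubgroupSet_range (Red.geomFibre s N) w).isClosed_of_isOpen hO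
  have hw3 : IsClosedImmersion w.left := IsClosedImmersion.of_isPreimmersion w.left hC
  refine h (j ≫ w) inferInstance ?_
  change IsClosedImmersion (j.left ≫ w.left)
  infer_instance

section Ample

variable (R K : Type u) [CommRing R] [IsDomain R] [IsDiscreteValuationRing R] [Field K] [Algebra R K]
  [IsFractionRing R K]

open Sga7.H260.Ext

/-- An ample invertible module on a smooth model with irreducible geometric fibres of an abelian variety. -/
theorem exists_ample (G : Over (Spec (CommRingCat.of R))) [GrpObj G] [Smooth G.hom] [IsSeparated G.hom]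
    [QuasiCompact G.hom] [IsProper ((SGA7.genFib R K).obj G).hom]
    [GeometricallyIntegral ((SGA7.genFib R K).obj G).hom]
    (hgi : GeometricallyIrreducible G.hom) : ∃ L : G.left.Modules, CohB1.IsAmple L := by
  obtain ⟨L₀, hL₀⟩ := Groth.Agent.S1841.result K ((SGA7.genFib R K).obj G)
  obtain ⟨L, hL, ⟨e⟩⟩ := exists_extension R K G L₀ hL₀.1
  refine ⟨L, ?_⟩
  obtain ⟨R', _, _, _, _, _⟩ := Groth.Agent.S0537.result R
  have : IsDomain R' := Sga4h.ChartDVR.isDomain_of_isStrictHenselization R R'
  have : IsDiscreteValuationRing R' :=
    Sga4h.ChartDVR.isDiscreteValuationRing_of_isStrictHenselization R R'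
  obtain ⟨hh, hs⟩ := Sga4h.ChartDVR.isStrictlyHenselianLocalRing_of_isStrictHenselization R R'
  have hff : Module.FaithfullyFlat R R' := Groth.Agent.Hensel.Lazard.faithfullyFlat_of_isStrictHenselization R R'
  let K' := FractionRing R'
  have hinj : Function.Injective (algebraMap R K') := by
    rw [IsScalarTower.algebraMap_eq R R' K']
    exact (IsFractionRing.injective R' K').comp (Sga4h.ChartDVR.injective_algebraMap R R')
  let _ : Algebra K K' := (IsFractionRing.lift (K := K) hinj).toAlgebra
  have : IsScalarTower R K K' := by
    refine IsScalarTower.of_algebraMap_eq fun r => ?_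
    exact (IsFractionRing.lift_algebraMap hinj r).symm
  let g : Spec (CommRingCat.of R') ⟶ Spec (CommRingCat.of R) := Spec.map (CommRingCat.ofHom (algebraMap R R'))
  let gK : Spec (CommRingCat.of K') ⟶ Spec (CommRingCat.of K) := Spec.map (CommRingCat.ofHom (algebraMap K K'))
  let G' := Red.bc g G
  have sG : Smooth G'.hom := inferInstanceAs (Smooth (pullback.snd G.hom g))
  have pG : IsSeparated G'.hom := inferInstanceAs (IsSeparated (pullback.snd G.hom g))
  have qG : QuasiCompact G'.hom := inferInstanceAs (QuasiCompact (pullback.snd G.hom g))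
  -- the comparison of the generic fibres
  have hcomm : Spec.map (CommRingCat.ofHom (algebraMap R' K')) ≫ g =
      gK ≫ Spec.map (CommRingCat.ofHom (algebraMap R K)) := by
    rw [← Spec.map_comp, ← Spec.map_comp, ← CommRingCat.ofHom_comp, ← CommRingCat.ofHom_comp,
      ← IsScalarTower.algebraMap_eq, ← IsScalarTower.algebraMap_eq]
  let c : ((SGA7.genFib R' K').obj G').left ⟶ ((SGA7.genFib R K).obj G).left :=
    pullback.lift (genProj R' K' G' ≫ pullback.fst G.hom g) (((SGA7.genFib R' K').obj G').hom ≫ gK) (by
      rw [Category.assoc, Category.assoc, ← hcomm, pullback.condition]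
      rw [← Category.assoc, ← Category.assoc]
      congr 1
      exact (isPullback_genProj R' K' G').w)
  have hc1 : c ≫ genProj R K G = genProj R' K' G' ≫ pullback.fst G.hom g := pullback.lift_fst _ _ _
  have hc2 : c ≫ ((SGA7.genFib R K).obj G).hom = ((SGA7.genFib R' K').obj G').hom ≫ gK := pullback.lift_snd _ _ _
  have hP1 : IsPullback (genProj R' K' G' ≫ pullback.fst G.hom g) ((SGA7.genFib R' K').obj G').hom G.hom
      (Spec.map (CommRingCat.ofHom (algebraMap R' K')) ≫ g) :=
    (isPullback_genProj R' K' G').paste_horiz (IsPullback.of_hasPullback G.hom g)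
  have hP : IsPullback c ((SGA7.genFib R' K').obj G').hom ((SGA7.genFib R K).obj G).hom gK := by
    refine IsPullback.of_right (h₁₂ := genProj R K G) (v₁₃ := G.hom)
      (h₂₂ := Spec.map (CommRingCat.ofHom (algebraMap R K))) ?_ hc2 (isPullback_genProj R K G)
    rw [hc1, ← hcomm]
    exact hP1
  have hP' : IsProper ((SGA7.genFib R' K').obj G').hom := MorphismProperty.of_isPullback (P := @IsProper) hP inferInstance
  have hG' : GeometricallyIntegral ((SGA7.genFib R' K').obj G').hom :=
    MorphismProperty.of_isPullback (P := @GeometricallyIntegral) hP inferInstance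
  have hcaff : IsAffineHom c := MorphismProperty.of_isPullback (P := @IsAffineHom) hP.flip inferInstance
  have hgi' : GeometricallyIrreducible G'.hom :=
    MorphismProperty.of_isPullback (P := @GeometricallyIrreducible) (IsPullback.of_hasPullback G.hom g) hgi
  have hirr := Sga7.H729.Core.isIrreducible_specialFibreSet G' hgi'
  have hA : CohB1.IsAmple ((Scheme.Modules.pullback (pullback.fst G.hom g)).obj L) := by
    refine Sga7.H260.Amp.isAmple R' K' G' hirr _ (Models2.AmplePull.isInvertible_pullback _ hL) ?_
    refine (Models2.AmplePull.isAmple_pullback_comp (genProj R' K' G') (pullback.fst G.hom g) L).1 ?_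
    refine (Models2.AmplePull.isAmple_pullback_congr hc1 L).1 ?_
    refine (Models2.AmplePull.isAmple_pullback_comp c (genProj R K G) L).2 ?_
    exact Models2.AmplePull.isAmple_pullback c (Models2.AmplePull.isAmple_of_iso e.symm hL₀)
  have hcs : CompactSpace G.left := QuasiCompact.compactSpace_of_compactSpace G.hom
  have hqs : QuasiSeparatedSpace G.left := by
    have : IsSeparated (G.hom ≫ terminal.from _) := inferInstance
    have : G.left.IsSeparated := ⟨by rwa [terminal.comp_from] at this⟩
    infer_instance
  have hfl : Flat g := Flat.SpecMap_iff.2 (RingHom.flat_algebraMap_iff.2 inferInstance)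
  have hsj : Surjective g := ⟨PrimeSpectrum.comap_surjective_of_faithfullyFlat⟩
  exact Desc.AmpleDesc.isAmple_of_finite_flat_family («ι» := PUnit.{u + 1}) G.hom
    (fun _ => Spec (CommRingCat.of R')) (fun _ => g) (fun y => ⟨⟨⟩, hsj.surj y⟩) (fun _ => IsPullback.of_hasPullback G.hom g) hL (fun _ => hA)

omit [IsDomain R] [IsDiscreteValuationRing R] in
/-- Finite sets of points lie in affine opens. -/
theorem af_of_isAmple (G : Over (Spec (CommRingCat.of R))) {L : G.left.Modules} (hL : CohB1.IsAmple L) :
    K809.AffNhd.AF G := by
  intro x F hF _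
  obtain ⟨n, s, h1, -, h3⟩ := Ega2.FiniteSet.exists_affine_genLocus_of_finite hL F hF ⊤ (fun _ _ => trivial)
  exact ⟨_, h3, h1, ⊤, isAffineOpen_top _, fun _ _ => trivial⟩

end Ample

/-- **NEUT.** -/
theorem main (R K : Type u) [CommRing R] [IsDomain R] [IsDiscreteValuationRing R] [Field K] [Algebra R K]
    [IsFractionRing R K] (A : Over (Spec (CommRingCat.of K))) [GrpObj A] [IsProper A.hom]
    [GeometricallyIntegral A.hom] (N : Over (Spec (CommRingCat.of R))) [GrpObj N] [IsCommMonObj N] [Smooth N.hom]
    [IsSeparated N.hom] [QuasiCompact N.hom]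
    (e0 : Red.bc (Spec.map (CommRingCat.ofHom (algebraMap R K))) N ≅ A) [he0 : IsMonHom e0.hom]
    (hu : SGA7.FibresUnipotentRankZero N) :
    ∃ (G : Over (Spec (CommRingCat.of R))) (_ : GrpObj G) (_ : IsCommMonObj G)
      (e : Red.bc (Spec.map (CommRingCat.ofHom (algebraMap R K))) G ≅ A), IsMonHom e.hom ∧ Smooth G.hom ∧
        IsSeparated G.hom ∧ QuasiCompact G.hom ∧ SGA7.FibresUnipotentRankZero G ∧ K809.AffNhd.AF G ∧
        (∀ (k' : Type u) [Field k'] (t : Spec (CommRingCat.of k') ⟶ Spec (CommRingCat.of R)),
          IrreducibleSpace ↑(pullback G.hom t)) := by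
  have h0 := isOpen_neutral N
  obtain ⟨g0, m0⟩ := exists_grpObj N h0
  have c0 : IsCommMonObj (opn N (neutral N h0)) := Sga7.H620.TorsCount.isCommMonObj_of_mono (opnι N (neutral N h0))
  have hsm0 := smooth_neutral' N h0
  have hqc0 := quasiCompact_neutral N h0
  have hsep0 : IsSeparated (opn N (neutral N h0)).hom := by
    rw [← Over.w (opnι N (neutral N h0))]
    infer_instance
  have hgi := geometricallyIrreducible_neutral N h0
  let fK := Spec.map (CommRingCat.ofHom (algebraMap R K))
  have hw : e0.hom.left ≫ A.hom = (Red.bc fK N).hom := Over.w e0.hom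
  have i1 : GeometricallyIntegral (Red.bc fK N).hom := by
    rw [← hw]
    exact (MorphismProperty.cancel_left_of_respectsIso (P := @GeometricallyIntegral) _ _).mpr inferInstance
  have i1' : IsProper (Red.bc fK N).hom := by
    rw [← hw]
    infer_instance
  have i2 : IsIntegral (Red.bc fK N).left := GeometricallyIntegral.isIntegral_of_subsingleton (Red.bc fK N).hom
  have i3 : ConnectedSpace (Red.bc fK N).left := inferInstance
  have i4 : IsIso ((Over.pullback fK).map (opnι N (neutral N h0))) := isIso_bc_neutral N h0 fK
  have i5 : IsIso ((Over.pullback fK).map (opnι N (neutral N h0))).left :=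
    inferInstanceAs (IsIso ((Over.forget _).map ((Over.pullback fK).map (opnι N (neutral N h0)))))
  have i6 : ((Over.pullback fK).map (opnι N (neutral N h0))).left ≫ (Red.bc fK N).hom =
      (Red.bc fK (opn N (neutral N h0))).hom := Over.w _
  have hK : IsProper ((SGA7.genFib R K).obj (opn N (neutral N h0))).hom := by
    have : IsProper (Red.bc fK (opn N (neutral N h0))).hom := by
      rw [← i6]
      infer_instance
    exact this
  have hKi : GeometricallyIntegral ((SGA7.genFib R K).obj (opn N (neutral N h0))).hom := by
    have : GeometricallyIntegral (Red.bc fK (opn N (neutral N h0))).hom := by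
      rw [← i6]
      exact (MorphismProperty.cancel_left_of_respectsIso (P := @GeometricallyIntegral) _ _).mpr i1
    exact this
  obtain ⟨L, hL⟩ := exists_ample R K (opn N (neutral N h0)) hgi
  have i7 : IsMonHom ((Over.pullback fK).map (opnι N (neutral N h0))) := inferInstance
  refine ⟨opn N (neutral N h0), g0, c0, asIso ((Over.pullback fK).map (opnι N (neutral N h0))) ≪≫ e0, ?_, hsm0, hsep0,
    hqc0, fun s => ?_, af_of_isAmple R _ hL, fun k' _ t => ?_⟩
  · let u : Red.bc fK (opn N (neutral N h0)) ⟶ Red.bc fK N := (Over.pullback fK).map (opnι N (neutral N h0))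
    have h1 : IsMonHom u := i7
    have h2 : IsMonHom (M := Red.bc fK N) (N := A) e0.hom := he0
    exact instIsMonHomComp u e0.hom
  · have : IsOpenImmersion (opnι N (neutral N h0)).left := inferInstance
    exact fibreUnipotentRankZero (opnι N (neutral N h0)) s (hu s)
  · exact hgi.geometrically_irreducibleSpace t _ _ (IsPullback.of_hasPullback _ _)

end K469.Neut
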